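import Cfsg.Agent.Lib.BinOct.Model

/-!
`GL(2,3)` in the normal form of `Lib.BinOct.Model`.
-/

set_option autoImplicit false

namespace Cfsg.Agent.Lib.BinOct

/-- The general linear group of degree two over three elements. -/
abbrev GL23 := GL (Fin 2) (ZMod 3)

/-- An element of order four. -/
def gI : GL23 := ⟨!![0, 1; 2, 0], !![0, 2; 1, 0], by decide, by decide⟩

/-- Its conjugate. -/
def gJ : GL23 := ⟨!![2, 1; 1, 1], !![1, 2; 2, 2], by decide, by decide⟩

/-- An element of order three. -/
def gC : GL23 := ⟨!![1, 0; 1, 1], !![1, 0; 2, 1], by decide, by decide⟩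

/-- An involution. -/
def gT : GL23 := ⟨!![1, 0; 0, 2], !![1, 0; 0, 2], by decide, by decide⟩

theorem gl_rel : Rel gI gJ gC gT := by
  constructor <;> decide +kernel

theorem gl_injective : Function.Injective (val gI gJ gC gT) := by
  have h : ∀ a b : El, val gI gJ gC gT a = val gI gJ gC gT b → a = b := by decide +kernel
  exact fun a b => h a b

theorem gl_card : Nat.card GL23 = 48 := by
  haveI : Fact (Nat.Prime 3) := ⟨Nat.prime_three⟩
  rw [Matrix.card_GL_field]
  simp [Fin.prod_univ_two, ZMod.card]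

theorem gl_gen : Subgroup.closure {gI, gJ, gC, gT} = ⊤ := by
  have hb : Function.Bijective (val gI gJ gC gT) :=
    gl_injective.bijective_of_nat_card_le (by rw [gl_card]; simp)
  refine eq_top_iff.2 fun g _ => ?_
  obtain ⟨e, rfl⟩ := hb.2 g
  have m : ∀ s ∈ ({gI, gJ, gC, gT} : Set GL23), s ∈ Subgroup.closure {gI, gJ, gC, gT} :=
    fun s hs => Subgroup.subset_closure hs
  exact mul_mem (mul_mem (mul_mem (pow_mem (m gI (by simp)) _) (pow_mem (m gJ (by simp)) _))
    (pow_mem (m gC (by simp)) _)) (pow_mem (m gT (by simp)) _)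

/-- Recognition of `GL(2,3)`. -/
theorem equiv_gl {G : Type*} [Group G] [Finite G] {i j c t : G} (h : Rel i j c t)
    (hgen : Subgroup.closure {i, j, c, t} = ⊤) (h48 : Nat.card G = 48) : Nonempty (G ≃* GL23) :=
  iso h hgen h48 gl_rel gl_gen gl_card

end Cfsg.Agent.Lib.BinOct
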