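import Cfsg.Prelude.Def_Solvable
import Cfsg.Agent.Lib.Hall.Solvable
import Cfsg.Agent.Lib.Thompson.QuaternionSection
import Cfsg.Agent.Lib.ZassSL25.CoreFree
import Cfsg.Agent.Lib.LocalP2.UniqueOrderP
import Cfsg.Agent.Lib.UniqueInvolution
import Cfsg.Agent.Lib.BinOct.GL

/-!
Solvable groups with trivial odd core whose 2-core has a unique involution.
-/

set_option autoImplicit false

namespace Cfsg.Agent.Lib.BinOct

open Subgroup

private abbrev Q8 := QuaternionGroup 2

theorem q8_center : ∀ q : Q8, (∀ r : Q8, q * r = r * q) ↔ (q = 1 ∨ q = QuaternionGroup.a 2) := by decide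

theorem q8_sq : ∀ q : Q8, q ^ 2 = 1 ↔ (q = 1 ∨ q = QuaternionGroup.a 2) := by decide

theorem q8_neg : ∀ u : Q8, u ^ 2 ≠ 1 → QuaternionGroup.a 2 * u = u * u * u := by decide

theorem q8_inv : ∀ u : Q8, u ^ 2 ≠ 1 → u⁻¹ = u * u * u := by decide

theorem q8_conj : ∀ u v : Q8, u ^ 2 ≠ 1 → v ^ 2 ≠ 1 → v ≠ u → v ≠ u * u * u →
    v * u * v⁻¹ = u⁻¹ ∧ u * (u * v) ≠ v := by decide

theorem q8_six : ∀ u v w : Q8, u ^ 2 ≠ 1 → v ^ 2 ≠ 1 → v ≠ u → v ≠ u * u * u → w = u * v →
    ∀ y : Q8, y ^ 2 ≠ 1 → y = u ∨ y = u⁻¹ ∨ y = v ∨ y = v⁻¹ ∨ y = w ∨ y = w⁻¹ := by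
  intro u v w h1 h2 h3 h4 hw
  subst hw
  revert h1 h2 h3 h4
  revert u v
  decide

/-- Orientation of an automorphism of order three of the quaternion group. -/
theorem orient (φ : MulAut Q8) (hφ : (orderOf φ).Coprime 2) (hne : φ ≠ 1) :
    ∃ ψ : MulAut Q8, (ψ = φ ∨ ψ = φ⁻¹) ∧ ψ ^ 3 = 1 ∧ ∃ u : Q8, u ^ 2 ≠ 1 ∧ ψ u ≠ u ∧ ψ u ≠ u * u * u ∧
      ψ (ψ u) = u * ψ u := by
  obtain ⟨h3, u, hu, h1, h2, h⟩ := Thompson.Quat.aut_q8 φ hφ hne
  rcases h with h | h
  · exact ⟨φ, Or.inl rfl, h3, u, hu, h1, h2, h⟩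
  · have hv2 : (φ u) ^ 2 ≠ 1 := fun e => hu (φ.injective (by rw [map_pow, e, map_one]))
    have hsw := Thompson.Quat.q8_swap u (φ u) hu hv2 h1 h2
    have hinv : φ⁻¹ u = φ (φ u) := by
      rw [show φ⁻¹ = φ ^ 2 from inv_eq_of_mul_eq_one_right (by rw [← pow_succ', h3]), pow_two,
        MulAut.mul_apply]
    have hinv2 : φ⁻¹ (φ⁻¹ u) = φ u := by
      rw [hinv]; exact MulAut.inv_apply_self _ φ (φ u)
    refine ⟨φ⁻¹, Or.inr rfl, by rw [inv_pow, h3, inv_one], u, hu, ?_, ?_, ?_⟩
    · rw [hinv, h]; exact hsw.2.2.2.2.2.1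
    · rw [hinv, h]; exact hsw.2.2.2.2.2.2.1
    · rw [hinv2, hinv, h]; exact hsw.2.2.2.2.2.2.2.2

/-- A fixed point free behaviour. -/
theorem fixed_sq (φ : MulAut Q8) (hφ : (orderOf φ).Coprime 2) (hne : φ ≠ 1) (y : Q8) (hy : φ y = y) :
    y ^ 2 = 1 := by
  by_contra hy2
  obtain ⟨ψ, hψ, h3, u, hu, h1, h2, h⟩ := orient φ hφ hne
  have hy' : ψ y = y := by
    rcases hψ with rfl | rfl
    · exact hy
    · conv_lhs => rw [← hy]
      exact MulAut.inv_apply_self _ φ y
  have hv2 : (ψ u) ^ 2 ≠ 1 := fun e => hu (ψ.injective (by rw [map_pow, e, map_one]))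
  rcases q8_six u (ψ u) (ψ (ψ u)) hu hv2 h1 h2 h y hy2 with rfl | rfl | rfl | rfl | rfl | rfl
  · exact h1 hy'
  · exact h1 (inv_injective (by rw [← map_inv]; exact hy'))
  · exact h1 (ψ.injective hy')
  · exact h1 (ψ.injective (inv_injective (by rw [← map_inv]; exact hy')))
  · exact h1 (ψ.injective (ψ.injective hy'))
  · exact h1 (ψ.injective (ψ.injective (inv_injective (by rw [← map_inv]; exact hy'))))

theorem fact48 : (48 : ℕ).factorization 3 = 1 ∧ (48 : ℕ).factorization 2 = 4 := by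
  rw [show (48 : ℕ) = 2 ^ 4 * 3 ^ 1 by norm_num,
    Nat.factorization_mul (pow_ne_zero _ two_ne_zero) (pow_ne_zero _ three_ne_zero),
    Nat.Prime.factorization_pow Nat.prime_two, Nat.Prime.factorization_pow Nat.prime_three]
  simp [Finsupp.single_apply]

universe u

variable {Q : Type u} [Group Q] [Finite Q]

/-- Sylow subgroup normal in a group with normal subgroup of full 2-part. -/
theorem normal_sylow_of (N : Subgroup Q) [N.Normal] (hN : IsPGroup 2 N) (hi : ¬ 2 ∣ N.index) :
    ∃ P : Sylow 2 Q, (P : Subgroup Q).Normal :=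
  ⟨hN.toSylow hi, ‹N.Normal›⟩

/-- The structure theorem. -/
theorem core_structure [Group.IsSolvable Q] (hO : pPrimeCore 2 Q = ⊥)
    (huniq : ∀ H K : Subgroup (pCore 2 Q), Nat.card H = 2 → Nat.card K = 2 → H = K) :
    (∃ P : Sylow 2 Q, (P : Subgroup Q).Normal) ∨
    Nonempty (Q ≃* GL23) ∨
    (Nat.card Q = 48 ∧ Nat.card (center Q) = 2 ∧
      Nonempty (Q ⧸ center Q ≃* Equiv.Perm (Fin 4)) ∧
      ∀ P : Sylow 2 Q, Nonempty (↥(P : Subgroup Q) ≃* QuaternionGroup 4)) := by
  classical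
  haveI : Fact (Nat.Prime 2) := ⟨Nat.prime_two⟩
  set T := pCore 2 Q with hTdef
  have hT : IsPGroup 2 T := Hall.isPGroup_pCore 2
  haveI hTn : T.Normal := by rw [hTdef]; infer_instance
  have hCT : centralizer (T : Set Q) ≤ T := Hall.centralizer_pCore_le 2 hO
  have hle : ∀ N : Subgroup Q, N.Normal → IsPGroup 2 N → N ≤ T :=
    fun N hn h => @Hall.le_pCore Q _ 2 N hn h
  have htwo : (∀ p : ℕ, p.Prime → p ∣ Nat.card Q → p = 2) → ∃ P : Sylow 2 Q, (P : Subgroup Q).Normal := by
    intro h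
    have hQ : IsPGroup 2 Q := IsPGroup.of_card (n := (Nat.card Q).primeFactorsList.length)
      (Nat.eq_prime_pow_of_unique_prime_dvd Nat.card_pos.ne' fun {d} hd hd' => h d hd hd')
    refine ⟨(hQ.to_subgroup (⊤ : Subgroup Q)).toSylow (by simp), ?_⟩
    exact inferInstanceAs (⊤ : Subgroup Q).Normal
  have hcent : ∀ g : Q, MulAut.conjNormal g = (1 : MulAut T) → g ∈ T := fun g hg => by
    refine hCT (mem_centralizer_iff.2 fun x hx => ?_)
    have := congrArg Subtype.val (DFunLike.congr_fun hg ⟨x, hx⟩)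
    simp only [MulAut.conjNormal_apply, MulAut.one_apply] at this
    conv_lhs => rw [← this]
    group
  rcases Lib.UniqueInvolution.isCyclic_or_quaternion hT huniq with hc | ⟨-, n, hn, ⟨e⟩⟩
  · left
    haveI := hc
    refine htwo fun p hp hpd => by_contra fun hp2 => ?_
    haveI : Fact p.Prime := ⟨hp⟩
    obtain ⟨g, hg⟩ := exists_prime_orderOf_dvd_card' p hpd
    have hco : (orderOf (MulAut.conjNormal (H := T) g)).Coprime 2 :=
      ((Nat.coprime_primes hp Nat.prime_two).2 hp2).coprime_dvd_left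
        (hg ▸ orderOf_map_dvd (MulAut.conjNormal (H := T)) g)
    have hgT := hcent g (Thompson.Quat.aut_cyclic_trivial hT _ hco)
    obtain ⟨k, hk⟩ := IsPGroup.iff_orderOf.1 hT ⟨g, hgT⟩
    rw [Subgroup.orderOf_mk, hg] at hk
    exact hp2 ((Nat.prime_dvd_prime_iff_eq hp Nat.prime_two).1 (hp.dvd_of_dvd_pow (dvd_of_eq hk)))
  set Φ : Q →* MulAut (QuaternionGroup (2 ^ n)) :=
    (MulAut.congr e).toMonoidHom.comp (MulAut.conjNormal (H := T)) with hΦ
  have hΦ1 : ∀ g, Φ g = 1 → g ∈ T := fun g hg => by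
    refine hcent g ?_
    have : MulAut.congr e (MulAut.conjNormal g) = 1 := hg
    exact (MulEquiv.map_eq_one_iff _).1 this
  have hΦap : ∀ (g : Q) (y : T), Φ g (e y) = e (MulAut.conjNormal g y) := fun g y => by
    simp [hΦ, MulAut.congr]
  have hodd : ∀ g : Q, (orderOf g).Coprime 2 → (orderOf (Φ g)).Coprime 2 := fun g h =>
    h.coprime_dvd_left (orderOf_map_dvd Φ g)
  have hprimeT : ∀ {p : ℕ} (g : Q), p.Prime → orderOf g = p → p ≠ 2 → g ∉ T := by
    intro p g hp hg hp2 hgT
    obtain ⟨k, hk⟩ := IsPGroup.iff_orderOf.1 hT ⟨g, hgT⟩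
    rw [Subgroup.orderOf_mk, hg] at hk
    exact hp2 ((Nat.prime_dvd_prime_iff_eq hp Nat.prime_two).1 (hp.dvd_of_dvd_pow (dvd_of_eq hk)))
  by_cases hn2 : 2 ≤ n
  · left
    refine htwo fun p hp hpd => by_contra fun hp2 => ?_
    haveI : Fact p.Prime := ⟨hp⟩
    obtain ⟨g, hg⟩ := exists_prime_orderOf_dvd_card' p hpd
    have hco : (orderOf g).Coprime 2 := hg ▸ (Nat.coprime_primes hp Nat.prime_two).2 hp2
    have h3 : 3 ≤ 2 ^ n := le_trans (by norm_num) (Nat.pow_le_pow_right two_pos hn2)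
    haveI : NeZero (2 ^ n) := ⟨by positivity⟩
    exact hprimeT g hp hg hp2 (hΦ1 g (Thompson.Quat.aut_big_trivial h3 (hT.of_equiv e) _ (hodd g hco)))
  obtain rfl : n = 1 := by omega
  change T ≃* Q8 at e
  change Q →* MulAut Q8 at Φ
  have hΦne : ∀ g : Q, g ∉ T → Φ g ≠ 1 := fun g hg h => hg (hΦ1 g h)
  have hT8 : Nat.card T = 8 := by
    rw [Nat.card_congr e.toEquiv, Nat.card_eq_fintype_card, QuaternionGroup.card]
  set z : Q := ((e.symm (QuaternionGroup.a 2) : T) : Q) with hz
  set C := centralizer (T : Set Q) with hC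
  haveI hCn : C.Normal := by rw [hC]; exact normal_centralizer
  have hCmem : ∀ g : Q, g ∈ C ↔ g = 1 ∨ g = z := by
    intro g
    constructor
    · intro hg
      have hq : ∀ r : Q8, e ⟨g, hCT hg⟩ * r = r * e ⟨g, hCT hg⟩ := fun r => by
        obtain ⟨y, rfl⟩ := e.surjective r
        rw [← map_mul, ← map_mul]
        exact congrArg e (Subtype.ext (mem_centralizer_iff.1 hg y y.2).symm)
      rcases (q8_center _).1 hq with h | h
      · left
        exact congrArg Subtype.val (e.injective (h.trans (map_one e).symm))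
      · right
        rw [hz, ← h, e.symm_apply_apply]
    · rintro (rfl | rfl)
      · exact one_mem _
      · refine mem_centralizer_iff.2 fun x hx => ?_
        refine congrArg Subtype.val (e.injective (?_ : e (⟨x, hx⟩ * e.symm (QuaternionGroup.a 2))
          = e (e.symm (QuaternionGroup.a 2) * ⟨x, hx⟩)))
        rw [map_mul, map_mul, e.apply_symm_apply]
        exact (((q8_center _).2 (Or.inr rfl)) _).symm
  have hz1 : z ≠ 1 := fun h => by
    have h' : e.symm (QuaternionGroup.a 2) = 1 := Subtype.ext h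
    rw [MulEquiv.map_eq_one_iff] at h'
    exact absurd h' (by decide)
  have hC2 : Nat.card C = 2 := by
    have hCs : (C : Set Q) = {1, z} := by ext g; simpa using hCmem g
    rw [show Nat.card C = (C : Set Q).ncard from Nat.card_coe_set_eq _, hCs, Set.ncard_pair (Ne.symm hz1)]
  have hTC : ∀ y : T, (e y) ^ 2 = 1 → (y : Q) ∈ C := fun y hy => by
    rw [hCmem]
    rcases (q8_sq _).1 hy with h | h
    · left; exact congrArg Subtype.val (e.injective (h.trans (map_one e).symm))
    · right; rw [hz, ← h, e.symm_apply_apply]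
  have hzc : ∀ g : Q, g * z = z * g := fun g => by
    rcases (hCmem _).1 (hCn.conj_mem z ((hCmem z).2 (Or.inr rfl)) g) with h | h
    · exact absurd (conj_eq_one_iff.1 h) hz1
    · conv_rhs => rw [← h]
      group
  have hker : Φ.ker = C := by
    ext g
    constructor
    · intro hg
      have hgT := hΦ1 g hg
      refine mem_centralizer_iff.2 fun x hx => ?_
      have h1 := hΦap g ⟨x, hx⟩
      rw [show Φ g = 1 from hg, MulAut.one_apply] at h1
      have h2 := congrArg Subtype.val (e.injective h1)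
      rw [MulAut.conjNormal_apply] at h2
      have h3 : x = g * x * g⁻¹ := h2
      conv_lhs => rw [h3]
      group
    · intro hg
      refine MulEquiv.ext fun r => ?_
      obtain ⟨y, rfl⟩ := e.surjective r
      rw [hΦap, MulAut.one_apply]
      refine congrArg e (Subtype.ext ?_)
      rw [MulAut.conjNormal_apply, ← mem_centralizer_iff.1 hg y y.2, mul_inv_cancel_right]
  have hQle : Nat.card Q ≤ 48 := by
    have h1 := Φ.ker.card_mul_index
    rw [hker, hC2, ← hker, Subgroup.index_ker] at h1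
    have h2 : Nat.card Φ.range ≤ 24 := (Subgroup.card_le_card_group _).trans ZassSL25.qeight_aut_card
    omega
  have h8 : 8 ∣ Nat.card Q := hT8 ▸ card_subgroup_dvd_card T
  have hp23 : ∀ p : ℕ, p.Prime → p ∣ Nat.card Q → p ≠ 2 → p = 3 := by
    intro p hp hpd hp2
    haveI : Fact p.Prime := ⟨hp⟩
    obtain ⟨g, hg⟩ := exists_prime_orderOf_dvd_card' p hpd
    have hco : (orderOf g).Coprime 2 := hg ▸ (Nat.coprime_primes hp Nat.prime_two).2 hp2
    have hne := hΦne g (hprimeT g hp hg hp2)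
    have h3 := (Thompson.Quat.aut_q8 _ (hodd g hco) hne).1
    have hd : orderOf (Φ g) ∣ p := hg ▸ orderOf_map_dvd Φ g
    rcases hp.eq_one_or_self_of_dvd _ hd with h | h
    · exact absurd (orderOf_eq_one_iff.1 h) hne
    · exact (Nat.prime_dvd_prime_iff_eq hp Nat.prime_three).1 (h ▸ orderOf_dvd_of_pow_eq_one h3)
  by_cases hp3 : 3 ∣ Nat.card Q
  swap
  · exact Or.inl (htwo fun p hp hpd => by_contra fun hp2 => hp3 (hp23 p hp hpd hp2 ▸ hpd))
  obtain ⟨d, hd⟩ := Nat.Coprime.mul_dvd_of_dvd_of_dvd (by norm_num : Nat.Coprime 8 3) h8 hp3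
  by_cases h24 : Nat.card Q = 24
  · left
    refine normal_sylow_of T hT ?_
    have := T.card_mul_index
    rw [hT8, h24] at this
    omega
  have h48 : Nat.card Q = 48 := by
    have := Nat.card_pos (α := Q)
    omega
  haveI : Fact (Nat.Prime 3) := ⟨Nat.prime_three⟩
  obtain ⟨c0, hc0⟩ := exists_prime_orderOf_dvd_card' 3 hp3
  have hc0T : c0 ∉ T := hprimeT c0 Nat.prime_three hc0 (by norm_num)
  have hgen : ∀ (H : Subgroup Q) (s c : Q), T ≤ H → s ∈ H → s * s = 1 → s ∉ T → orderOf c = 3 →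
      c ∈ H → H = ⊤ := by
    intro H s c hTH hs hss hsT hc hcH
    have hU : IsPGroup 2 (T ⊔ zpowers s : Subgroup Q) := by
      have hsP : IsPGroup 2 (zpowers s) := by
        have hd2 : orderOf s = 2 := orderOf_eq_prime (by rw [pow_two, hss]) fun h => hsT (h ▸ one_mem T)
        exact IsPGroup.of_card (n := 1) (by rw [Nat.card_zpowers, hd2, pow_one])
      rw [sup_comm]
      exact Hall.isPGroup_sup_of_normal hsP hT
    obtain ⟨k, hk⟩ := IsPGroup.iff_card.1 hU
    have h16 : 16 ∣ Nat.card (T ⊔ zpowers s : Subgroup Q) := by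
      have hlt : 8 < Nat.card (T ⊔ zpowers s : Subgroup Q) := by
        rw [← hT8]
        refine lt_of_le_of_ne (Subgroup.card_le_of_le le_sup_left) fun h => hsT ?_
        rw [eq_of_le_of_card_ge le_sup_left h.ge]
        exact le_sup_right (a := T) (mem_zpowers s)
      rw [hk] at hlt ⊢
      have hk4 : 4 ≤ k := by
        by_contra hk4
        have := Nat.pow_le_pow_right two_pos (show k ≤ 3 by omega)
        omega
      exact pow_dvd_pow 2 hk4
    have hd1 : 16 ∣ Nat.card H :=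
      h16.trans (card_dvd_of_le (sup_le hTH (zpowers_le.2 hs)))
    have hd2 : 3 ∣ Nat.card H := hc ▸ H.orderOf_dvd_natCard hcH
    refine eq_top_of_le_card _ ?_
    rw [h48]
    exact Nat.le_of_dvd Nat.card_pos (Nat.Coprime.mul_dvd_of_dvd_of_dvd (by norm_num) hd1 hd2)
  by_cases ht : ∃ t : Q, t * t = 1 ∧ t ∉ T
  · right; left
    obtain ⟨t, ht, htT⟩ := ht
    have htinv : t⁻¹ = t := inv_eq_of_mul_eq_one_right ht
    set y := t * c0 * t⁻¹ * c0⁻¹ with hy
    have hyT : y ∉ T := by
      intro hyT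
      apply htT
      have hU : IsPGroup 2 (T ⊔ zpowers t : Subgroup Q) := by
        have hd2 : orderOf t = 2 := orderOf_eq_prime (by rw [pow_two, ht]) fun h => htT (h ▸ one_mem T)
        rw [sup_comm]
        exact Hall.isPGroup_sup_of_normal (IsPGroup.of_card (n := 1) (by rw [Nat.card_zpowers, hd2, pow_one])) hT
      have htU : t ∈ T ⊔ zpowers t := le_sup_right (a := T) (mem_zpowers t)
      have hN : normalizer ((T ⊔ zpowers t : Subgroup Q) : Set Q) = ⊤ := by
        refine hgen _ t c0 ?_ ?_ ht htT hc0 ?_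
        · exact le_trans le_sup_left le_normalizer
        · exact le_normalizer htU
        · refine mem_normalizer_fintype (S := ((T ⊔ zpowers t : Subgroup Q) : Set Q)) ?_
          have hle' : (T ⊔ zpowers t : Subgroup Q) ≤
              (T ⊔ zpowers t : Subgroup Q).comap (MulAut.conj c0).toMonoidHom := by
            refine sup_le (fun x hx => ?_) (zpowers_le.2 ?_)
            · exact le_sup_left (b := zpowers t) (hTn.conj_mem x hx c0)
            · rw [Subgroup.mem_comap]
              show c0 * t * c0⁻¹ ∈ (T ⊔ zpowers t : Subgroup Q)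
              have : c0 * t * c0⁻¹ = y⁻¹ * t := by
                rw [hy]; group
              rw [this]
              exact mul_mem (le_sup_left (b := zpowers t) (inv_mem hyT)) htU
          exact fun x hx => hle' hx
      exact hle _ (normalizer_eq_top_iff.1 hN) hU htU
    set W := T ⊔ zpowers c0 with hW
    have hW24 : Nat.card W = 24 ∧ W.index = 2 := by
      have hd : 24 ∣ Nat.card W := Nat.Coprime.mul_dvd_of_dvd_of_dvd (m := 8) (n := 3) (by norm_num)
        (hT8 ▸ card_dvd_of_le le_sup_left)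
        (hc0 ▸ Nat.card_zpowers c0 ▸ card_dvd_of_le le_sup_right)
      have hle' : Nat.card W ≤ 24 := by
        have h1 : Nat.card (T.subgroupOf W) * T.relIndex W = Nat.card W := card_mul_index _
        rw [Nat.card_congr (subgroupOfEquivOfLe (le_sup_left : T ≤ W)).toEquiv, hT8, hW,
          relIndex_sup_left] at h1
        have h2 : T.relIndex (zpowers c0) ≤ 3 := by
          refine Nat.le_of_dvd (by norm_num) ?_
          rw [← hc0, ← Nat.card_zpowers]
          exact Subgroup.index_dvd_card _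
        rw [hW, ← h1]
        omega
      have h1 := Nat.le_of_dvd Nat.card_pos hd
      have h2 := W.card_mul_index
      rw [h48, show Nat.card W = 24 by omega] at h2
      omega
    haveI hWn : W.Normal := normal_of_index_eq_two hW24.2
    have hyW : y ∈ W := mul_mem (hWn.conj_mem c0 (le_sup_right (a := T) (mem_zpowers c0)) t)
      (inv_mem (le_sup_right (a := T) (mem_zpowers c0)))
    set c := y ^ 8 with hc
    have hc3 : c ^ 3 = 1 := by
      rw [hc, ← pow_mul]
      exact orderOf_dvd_iff_pow_eq_one.1 ((W.orderOf_dvd_natCard hyW).trans (dvd_of_eq (by rw [hW24.1])))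
    have hc1 : c ≠ 1 := by
      intro h
      apply hyT
      have hyP : IsPGroup 2 (zpowers y) := by
        obtain ⟨k, -, hk⟩ := (Nat.dvd_prime_pow Nat.prime_two (m := 3)).1
          (orderOf_dvd_of_pow_eq_one (show y ^ 2 ^ 3 = 1 by norm_num; exact h))
        exact IsPGroup.of_card (n := k) (by rw [Nat.card_zpowers, hk])
      obtain ⟨k, hk⟩ := IsPGroup.iff_card.1 (Hall.isPGroup_sup_of_normal hyP hT)
      have hd : 2 ^ k ∣ 2 ^ 3 * 3 := by
        rw [← hk, show 2 ^ 3 * 3 = Nat.card W by rw [hW24.1]; norm_num]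
        exact card_dvd_of_le (sup_le (zpowers_le.2 hyW) le_sup_left)
      have hd' : 2 ^ k ∣ 2 ^ 3 := (Nat.Coprime.pow_left k (by norm_num)).dvd_of_dvd_mul_right hd
      have := eq_of_le_of_card_ge (le_sup_right : T ≤ zpowers y ⊔ T)
        (by rw [hk, hT8]; exact Nat.le_of_dvd (by norm_num) hd')
      rw [this]
      exact le_sup_left (b := T) (mem_zpowers y)
    have hcord : orderOf c = 3 := orderOf_eq_prime hc3 hc1
    have hcT : c ∉ T := hprimeT c Nat.prime_three hcord (by norm_num)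
    have hty : t * y * t⁻¹ = y⁻¹ := by
      rw [hy, htinv]
      simp only [mul_assoc, mul_inv_rev, htinv, inv_inv]
      rw [← mul_assoc t t, ht, one_mul]
    have htc : t * c * t⁻¹ = c⁻¹ := by rw [hc, ← conj_pow, hty, inv_pow]
    have hco : (orderOf c).Coprime 2 := by rw [hcord]; norm_num
    obtain ⟨ψ, hψ, hψ3, u, hu, h1, h2, hrel⟩ := orient (Φ c) (hodd c hco) (hΦne c hcT)
    obtain ⟨c', hc'3, htc', hψc, hc'ord⟩ : ∃ c' : Q, c' ^ 3 = 1 ∧ t * c' * t⁻¹ = c'⁻¹ ∧ Φ c' = ψ ∧
        orderOf c' = 3 := by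
      rcases hψ with rfl | rfl
      · exact ⟨c, hc3, htc, rfl, hcord⟩
      · exact ⟨c⁻¹, by rw [inv_pow, hc3, inv_one], by rw [← conj_inv, htc], map_inv Φ c,
          by rw [orderOf_inv, hcord]⟩
    set β := Φ t with hβ
    have hψ33 : ∀ x, ψ (ψ (ψ x)) = x := fun x => by
      have := DFunLike.congr_fun hψ3 x
      simpa [pow_succ, MulAut.mul_apply] using this
    have hβψ : ∀ x, β (ψ x) = ψ (ψ (β x)) := fun x => by
      have e1 : t * c' = c'⁻¹ * t := by rw [← htc']; group
      have e2 := congrArg Φ e1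
      rw [map_mul, map_mul, map_inv, hψc] at e2
      have e3 := DFunLike.congr_fun e2 x
      rw [MulAut.mul_apply, MulAut.mul_apply, show ψ⁻¹ = ψ * ψ from
        inv_eq_of_mul_eq_one_right (by rw [← mul_assoc, ← pow_three', hψ3]), MulAut.mul_apply] at e3
      exact e3
    have hord4 : ∀ (φ : MulAut Q8) (x : Q8), x ^ 2 ≠ 1 → (φ x) ^ 2 ≠ 1 := fun φ x hx h =>
      hx (φ.injective (by rw [map_pow, h, map_one]))
    -- an axis fixed by `t`
    obtain ⟨a, ha, ha1, ha2, harel, haβ⟩ : ∃ a : Q8, a ^ 2 ≠ 1 ∧ ψ a ≠ a ∧ ψ a ≠ a * a * a ∧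
        ψ (ψ a) = a * ψ a ∧ (β a = a ∨ β a = a⁻¹) := by
      have hrot : ∀ x : Q8, x ^ 2 ≠ 1 → ψ x ≠ x → ψ x ≠ x * x * x → ψ (ψ x) = x * ψ x →
          (ψ x) ^ 2 ≠ 1 ∧ ψ (ψ x) ≠ ψ x ∧ ψ (ψ x) ≠ ψ x * ψ x * ψ x ∧ ψ (ψ (ψ x)) = ψ x * ψ (ψ x) :=
        fun x hx e1 e2 e3 => ⟨hord4 ψ x hx, fun h => e1 (ψ.injective h),
          fun h => e2 (ψ.injective (by rw [map_mul, map_mul]; exact h)), by rw [← map_mul, ← e3]⟩
      obtain ⟨r1, r2, r3, r4⟩ := hrot u hu h1 h2 hrel
      obtain ⟨s1, s2, s3, s4⟩ := hrot _ r1 r2 r3 r4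
      rcases q8_six u (ψ u) (ψ (ψ u)) hu r1 h1 h2 hrel (β u) (hord4 β u hu) with h | h | h | h | h | h
      · exact ⟨u, hu, h1, h2, hrel, Or.inl h⟩
      · exact ⟨u, hu, h1, h2, hrel, Or.inr h⟩
      · exact ⟨_, s1, s2, s3, s4, Or.inl (by rw [hβψ, hβψ, h, hψ33 (ψ (ψ u))])⟩
      · exact ⟨_, s1, s2, s3, s4, Or.inr (by rw [hβψ, hβψ, h, map_inv, map_inv, map_inv, map_inv, hψ33 (ψ (ψ u))])⟩
      · exact ⟨_, r1, r2, r3, r4, Or.inl (by rw [hβψ, h, hψ33 (ψ u)])⟩
      · exact ⟨_, r1, r2, r3, r4, Or.inr (by rw [hβψ, h, map_inv, map_inv, hψ33 (ψ u)])⟩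
    have hb2 := hord4 ψ a ha
    have hβa : β a = a⁻¹ := by
      refine haβ.resolve_left fun h => ?_
      have e1 : β (ψ a) = ψ (ψ a) := by rw [hβψ, h]
      have e2 : β (ψ (ψ a)) = ψ a := by rw [hβψ, e1, hψ33 (ψ a)]
      rw [harel, map_mul, h, e1, harel] at e2
      exact (q8_conj a (ψ a) ha hb2 ha1 ha2).2 e2
    have hpull : ∀ (g : Q) (x x' : Q8), Φ g x = x' →
        g * ((e.symm x : T) : Q) * g⁻¹ = ((e.symm x' : T) : Q) := by
      intro g x x' h
      have h1 := hΦap g (e.symm x)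
      rw [e.apply_symm_apply, h] at h1
      rw [← MulAut.conjNormal_apply]
      exact congrArg Subtype.val (by rw [h1, e.symm_apply_apply])
    set i : Q := ((e.symm a : T) : Q) with hi
    set j : Q := ((e.symm (ψ a) : T) : Q) with hj
    have hval : ∀ x y : Q8, ((e.symm x : T) : Q) * ((e.symm y : T) : Q) = ((e.symm (x * y) : T) : Q) :=
      fun x y => by rw [map_mul e.symm, Subgroup.coe_mul]
    have hinv : ∀ x : Q8, ((e.symm x : T) : Q)⁻¹ = ((e.symm x⁻¹ : T) : Q) :=
      fun x => by rw [map_inv e.symm, Subgroup.coe_inv]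
    have hR : Rel i j c' t := by
      refine ⟨?_, ?_, ?_, hc'3, ht, ?_, hpull c' a _ (by rw [hψc]), ?_, ?_⟩
      · show ((e.symm a : T) : Q) ^ 4 = 1
        rw [← Subgroup.coe_pow, ← map_pow e.symm, show a ^ 4 = a * a * (a * a) by simp [pow_succ, mul_assoc],
          Thompson.Quat.q8_four a, map_one]
        rfl
      · show ((e.symm (ψ a) : T) : Q) * ((e.symm (ψ a) : T) : Q) = ((e.symm a : T) : Q) * ((e.symm a : T) : Q)
        rw [hval, hval, Thompson.Quat.q8_rel₂ a (ψ a) ha hb2 ha1 ha2]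
      · show ((e.symm (ψ a) : T) : Q) * ((e.symm a : T) : Q) * ((e.symm (ψ a) : T) : Q)⁻¹ =
          ((e.symm a : T) : Q)⁻¹
        rw [hinv, hinv, hval, hval, (q8_conj a (ψ a) ha hb2 ha1 ha2).1]
      · rw [← htc']; group
      · rw [hpull c' (ψ a) _ (by rw [hψc]), harel, map_mul, Subgroup.coe_mul]
      · rw [hpull t a _ hβa, map_inv, Subgroup.coe_inv]
    refine equiv_gl hR (hgen _ t c' ?_ (subset_closure (by simp)) ht htT hc'ord
      (subset_closure (by simp))) h48
    intro x hx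
    obtain ⟨-, -, -, hall⟩ := Thompson.Quat.q8_commutator a (ψ a) ha hb2 ha1 ha2
    have mi : i ∈ closure ({i, j, c', t} : Set Q) := subset_closure (by simp)
    have mj : j ∈ closure ({i, j, c', t} : Set Q) := subset_closure (by simp)
    have hx' : x = ((e.symm (e ⟨x, hx⟩) : T) : Q) := by rw [e.symm_apply_apply]
    rw [hx']
    rcases hall (e ⟨x, hx⟩) with h | h | h | h | h | h | h | h <;>
      (rw [h]; simp only [map_mul, map_one, Subgroup.coe_mul, Subgroup.coe_one, ← hi, ← hj])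
    · exact one_mem _
    · exact mul_mem mi mi
    · exact mi
    · exact mul_mem (mul_mem mi mi) mi
    · exact mj
    · exact mul_mem (mul_mem mj mj) mj
    · exact mul_mem mi mj
    · exact mul_mem mj mi
  right; right
  push Not at ht
  have hTne : ¬ IsMulCommutative T := fun h => by
    have hh := congrArg e (h.is_comm.comm (e.symm (QuaternionGroup.a 1)) (e.symm (QuaternionGroup.xa 0)))
    simp only [map_mul, e.apply_symm_apply] at hh
    exact absurd hh (by decide)
  -- the four Sylow three-subgroups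
  obtain ⟨P3⟩ : Nonempty (Sylow 3 Q) := inferInstance
  have hP3 : Nat.card P3 = 3 := by
    rw [P3.card_eq_multiplicity, h48]
    rw [(fact48).1]; norm_num
  set N := normalizer ((P3 : Subgroup Q) : Set Q) with hN
  obtain ⟨⟨d3, hd3⟩, hd3'⟩ := exists_prime_orderOf_dvd_card' (G := P3) 3 (by rw [hP3])
  rw [Subgroup.orderOf_mk] at hd3'
  have hd3T : d3 ∉ T := hprimeT d3 Nat.prime_three hd3' (by norm_num)
  have hd3c : (orderOf d3).Coprime 2 := by rw [hd3']; norm_num
  have hPT : ∀ x ∈ (P3 : Subgroup Q), x ∈ T → x = 1 := fun x hx hxT => by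
    rw [← orderOf_eq_one_iff]
    have h1 : orderOf x ∣ 3 := hP3 ▸ (P3 : Subgroup Q).orderOf_dvd_natCard hx
    have h2 : orderOf x ∣ 8 := hT8 ▸ T.orderOf_dvd_natCard hxT
    exact Nat.eq_one_of_dvd_coprimes (by norm_num) h1 h2
  have hNT : N ⊓ T ≤ C := by
    rintro y ⟨hyN, hyT⟩
    refine hTC ⟨y, hyT⟩ (fixed_sq _ (hodd d3 hd3c) (hΦne d3 hd3T) _ ?_)
    rw [hΦap]
    refine congrArg e (Subtype.ext ?_)
    rw [MulAut.conjNormal_apply]
    have h1 : d3 * y * d3⁻¹ * y⁻¹ = 1 := hPT _ (by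
      have : y * d3⁻¹ * y⁻¹ ∈ (P3 : Subgroup Q) := ((mem_normalizer_iff.1 hyN) _).1 (inv_mem hd3)
      have := mul_mem hd3 this
      simpa [mul_assoc] using this)
      (mul_mem (hTn.conj_mem y hyT d3) (inv_mem hyT))
    exact mul_inv_eq_one.1 h1
  have hN4 : N.index = 4 := by
    have hle' : Nat.card N ≤ 12 := by
      have h1 : T.relIndex N ∣ T.index := relIndex_dvd_index_of_normal _ _
      have h2 : Nat.card (T.subgroupOf N) * T.relIndex N = Nat.card N := card_mul_index _
      have h3 : Nat.card (T.subgroupOf N) ≤ 2 := by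
        rw [← Subgroup.card_map_of_injective (f := N.subtype) Subtype.val_injective, Subgroup.subgroupOf_map_subtype,
          ← hC2]
        exact Subgroup.card_le_of_le (by rw [inf_comm]; exact hNT)
      have h4 : T.index = 6 := by
        have := T.card_mul_index
        rw [hT8, h48] at this; omega
      rw [h4] at h1
      have := Nat.le_of_dvd (by norm_num) h1
      nlinarith
    have h6 : 6 ∣ Nat.card N := by
      refine Nat.Coprime.mul_dvd_of_dvd_of_dvd (m := 2) (n := 3) (by norm_num) ?_ ?_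
      · rw [← hC2]
        refine card_dvd_of_le fun g hg => mem_normalizer_iff.2 fun x => ?_
        have hcz : g * x * g⁻¹ = x := by
          rcases (hCmem g).1 hg with rfl | rfl
          · simp
          · rw [← hzc, mul_inv_cancel_right]
        rw [hcz]
      · rw [← hP3]; exact card_dvd_of_le le_normalizer
    have hmod : N.index % 3 = 1 := by
      have := card_sylow_modEq_one 3 Q
      rw [Sylow.card_eq_index_normalizer P3] at this
      simpa [Nat.ModEq, hN] using this
    have hmul := N.card_mul_index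
    rw [h48] at hmul
    obtain ⟨m, hm⟩ := h6
    have hpos := Nat.card_pos (α := N)
    have : m = 1 ∨ m = 2 := by omega
    rcases this with rfl | rfl <;> (rw [hm] at hmul; omega)
  set ρ := MulAction.toPermHom Q (Sylow 3 Q) with hρ
  have hKN : ρ.ker ≤ N := fun g hg => by
    have : g • P3 = P3 := by
      have := DFunLike.congr_fun (show ρ g = 1 from hg) P3
      exact this
    exact Sylow.smul_eq_iff_mem_normalizer.1 this
  have hK3 : ¬ 3 ∣ Nat.card ρ.ker := by
    intro h
    obtain ⟨⟨g, hgK⟩, hg⟩ := exists_prime_orderOf_dvd_card' (G := ρ.ker) 3 h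
    rw [Subgroup.orderOf_mk] at hg
    have hgc : (orderOf g).Coprime 2 := by rw [hg]; norm_num
    obtain ⟨-, w, hw, hw1, hw2, -⟩ :=
      Thompson.Quat.aut_q8 _ (hodd g hgc) (hΦne g (hprimeT g Nat.prime_three hg (by norm_num)))
    set yT : T := e.symm w
    have hmem : (⟨g * yT * g⁻¹, hTn.conj_mem _ yT.2 g⟩ * yT⁻¹ : T).1 ∈ C := by
      refine hNT ⟨?_, Subtype.coe_prop _⟩
      refine hKN ?_
      show g * (yT : Q) * g⁻¹ * (yT : Q)⁻¹ ∈ ρ.ker
      have := mul_mem hgK ((MonoidHom.normal_ker ρ).conj_mem _ (inv_mem hgK) (yT : Q))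
      simpa [mul_assoc] using this
    have hgy : e (⟨g * yT * g⁻¹, hTn.conj_mem _ yT.2 g⟩ : T) = Φ g w := by
      conv_rhs => rw [show w = e yT from (e.apply_symm_apply w).symm, hΦap]
      exact congrArg e (Subtype.ext (MulAut.conjNormal_apply g yT).symm)
    rcases (hCmem _).1 hmem with h0 | h0
    · have h1 : (⟨g * yT * g⁻¹, hTn.conj_mem _ yT.2 g⟩ * yT⁻¹ : T) = 1 := Subtype.ext h0
      have h2 := congrArg e h1
      rw [map_mul, map_inv, map_one, hgy, e.apply_symm_apply, mul_inv_eq_one] at h2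
      exact hw1 h2
    · have h1 : (⟨g * yT * g⁻¹, hTn.conj_mem _ yT.2 g⟩ * yT⁻¹ : T) = e.symm (QuaternionGroup.a 2) :=
        Subtype.ext h0
      have h2 := congrArg e h1
      rw [map_mul, map_inv, hgy, e.apply_symm_apply, e.apply_symm_apply, mul_inv_eq_iff_eq_mul,
        q8_neg w hw] at h2
      exact hw2 h2
  have hKC : ρ.ker = C := by
    refine le_antisymm ?_ ?_
    · have hK2 : IsPGroup 2 ρ.ker := IsPGroup.of_card
        (Nat.eq_prime_pow_of_unique_prime_dvd Nat.card_pos.ne' fun {p} hp hpd => by_contra fun hp2 =>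
          hK3 (hp23 p hp (hpd.trans (card_subgroup_dvd_card _)) hp2 ▸ hpd))
      exact fun g hg => hNT ⟨hKN hg, hle _ inferInstance hK2 hg⟩
    · intro g hg
      refine Equiv.ext fun P => ?_
      refine Sylow.smul_eq_iff_mem_normalizer.2 (mem_normalizer_iff.2 fun x => ?_)
      have hcz : g * x * g⁻¹ = x := by
        rcases (hCmem g).1 hg with rfl | rfl
        · simp
        · rw [← hzc, mul_inv_cancel_right]
      rw [hcz]
  have hcenter : center Q = C := by
    refine le_antisymm (center_le_centralizer _) fun g hg => mem_center_iff.2 fun x => ?_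
    rcases (hCmem g).1 hg with rfl | rfl
    · simp
    · exact hzc x
  have hSyl : Nat.card (Sylow 3 Q) = 4 := by rw [Sylow.card_eq_index_normalizer P3]; exact hN4
  have hsurj : Function.Surjective ρ := by
    rw [← MonoidHom.range_eq_top]
    refine eq_top_of_le_card _ ?_
    have h1 := ρ.ker.card_mul_index
    rw [hKC, hC2, ← hKC, Subgroup.index_ker, h48] at h1
    rw [Nat.card_perm, hSyl]
    rw [show Nat.factorial 4 = 24 from rfl]
    omega
  refine ⟨h48, by rw [hcenter, hC2], ?_, fun P => ?_⟩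
  · exact ⟨((QuotientGroup.quotientMulEquivOfEq (show center Q = ρ.ker by rw [hcenter, hKC])).trans
      (QuotientGroup.quotientKerEquivOfSurjective ρ hsurj)).trans
      ((Finite.equivFinOfCardEq hSyl).permCongrHom)⟩
  · have hP16 : Nat.card P = 16 := by
      rw [P.card_eq_multiplicity, h48]
      rw [(fact48).2]; norm_num
    have hTP : T ≤ P := Hall.pCore_le_sylow P
    have hu : ∀ H K : Subgroup P, Nat.card H = 2 → Nat.card K = 2 → H = K := by
      have key : ∀ H : Subgroup P, Nat.card H = 2 → H = zpowers (⟨z, hTP (SetLike.coe_mem _)⟩ : P) := by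
        intro H hH
        obtain ⟨⟨x, hx⟩, hxo⟩ := exists_prime_orderOf_dvd_card' (G := H) 2 (by rw [hH])
        rw [Subgroup.orderOf_mk] at hxo
        have hxx : (x : Q) * x = 1 := by
          rw [← Subgroup.coe_mul, ← pow_two, orderOf_dvd_iff_pow_eq_one.1 hxo.dvd]; rfl
        have hxT := ht _ hxx
        have h2 : (e ⟨x, hxT⟩) ^ 2 = 1 := by
          rw [← map_pow, show (⟨(x : Q), hxT⟩ : T) ^ 2 = 1 from Subtype.ext (by simpa [pow_two] using hxx),
            map_one]
        rcases (q8_sq _).1 h2 with h | h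
        · exfalso
          have := e.injective (h.trans (map_one e).symm)
          have hx1 : x = 1 := Subtype.ext (congrArg Subtype.val this :)
          rw [hx1, orderOf_one] at hxo
          omega
        · have hxz : x = ⟨z, hTP (SetLike.coe_mem _)⟩ := Subtype.ext (by
            show (x : Q) = z
            rw [hz, ← h, e.symm_apply_apply])
          rw [← hxz]
          exact (eq_of_le_of_card_ge (zpowers_le.2 hx) (by rw [hH, Nat.card_zpowers, hxo])).symm
      intro H K hH hK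
      rw [key H hH, key K hK]
    rcases Lib.UniqueInvolution.isCyclic_or_quaternion P.isPGroup' hu with hcyc | ⟨-, k, -, ⟨f⟩⟩
    · exfalso
      apply hTne
      haveI := hcyc
      letI := IsCyclic.commGroup (α := P)
      exact ⟨⟨fun a b => Subtype.ext
        (congrArg Subtype.val (mul_comm (⟨a, hTP a.2⟩ : P) ⟨b, hTP b.2⟩) :)⟩⟩
    · have h16 := Nat.card_congr f.toEquiv
      rw [hP16, Nat.card_eq_fintype_card, QuaternionGroup.card] at h16
      have : 2 ^ k = 4 := by omega
      exact ⟨this ▸ f⟩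

end Cfsg.Agent.Lib.BinOct
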