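import Mathlib

/-!
A normal form for the group of order 48 given by a quaternion pair `i, j`, an element `c` of order
three permuting them and an involution `t`; any two such groups are isomorphic (to `GL(2,3)`).
-/

set_option autoImplicit false

namespace Cfsg.Agent.Lib.BinOct

/-- Normal forms of the quaternion part. -/
abbrev Qf := Fin 4 × Fin 2

/-- Normal forms. -/
abbrev El := Qf × Fin 3 × Fin 2

/-- Product of normal forms in the quaternion part. -/
def mulF (x y : Qf) : Qf :=
  (x.1 + (if x.2 = 0 then y.1 else -y.1) + (if x.2 = 1 ∧ y.2 = 1 then 2 else 0), x.2 + y.2)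

/-- Powers of a normal form. -/
def powF (x : Qf) : ℕ → Qf
  | 0 => (0, 0)
  | n + 1 => mulF (powF x n) x

/-- Conjugation by `c`. -/
def conjC (x : Qf) : Qf := mulF (powF (0, 1) x.1.val) (powF (1, 1) x.2.val)

/-- Conjugation by `t`. -/
def conjT (x : Qf) : Qf := mulF (powF (3, 0) x.1.val) (powF (3, 1) x.2.val)

/-- The four generators. -/
inductive Gen | I | J | C | T

/-- Left multiplication by a generator. -/
def act : Gen → El → El
  | .I, e => (mulF (1, 0) e.1, e.2)
  | .J, e => (mulF (0, 1) e.1, e.2)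
  | .C, e => (conjC e.1, e.2.1 + 1, e.2.2)
  | .T, e => (conjT e.1, -e.2.1, e.2.2 + 1)

/-- The defining relations. -/
structure Rel {G : Type*} [Group G] (i j c t : G) : Prop where
  hi : i ^ 4 = 1
  hj : j * j = i * i
  hji : j * i * j⁻¹ = i⁻¹
  hc : c ^ 3 = 1
  ht : t * t = 1
  htc : t * c = c⁻¹ * t
  hci : c * i * c⁻¹ = j
  hcj : c * j * c⁻¹ = i * j
  hti : t * i * t⁻¹ = i⁻¹

variable {G : Type*} [Group G] {i j c t : G}

/-- Value of a quaternion normal form. -/
def qv (i j : G) (x : Qf) : G := i ^ x.1.val * j ^ x.2.val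

/-- Value of a normal form. -/
def val (i j c t : G) (e : El) : G := qv i j e.1 * c ^ e.2.1.val * t ^ e.2.2.val

/-- The generators. -/
def gen (i j c t : G) : Gen → G
  | .I => i
  | .J => j
  | .C => c
  | .T => t

theorem Rel.pow_i (h : Rel i j c t) (n : ℕ) : i ^ (n % 4) = i ^ n := by
  conv_rhs => rw [← Nat.mod_add_div n 4, pow_add, pow_mul, h.hi, one_pow, mul_one]

theorem Rel.qv_mul (h : Rel i j c t) (x y : Qf) : qv i j (mulF x y) = qv i j x * qv i j y := by
  obtain ⟨a, b⟩ := x
  obtain ⟨a', b'⟩ := y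
  have hcj : ∀ n : ℕ, j * i ^ n = (i ^ n)⁻¹ * j := fun n => by
    rw [← inv_pow, ← h.hji, conj_pow]; group
  have hneg : ∀ m : Fin 4, (i ^ m.val)⁻¹ = i ^ (-m : Fin 4).val := fun m => by
    rw [inv_eq_iff_mul_eq_one, ← pow_add, ← h.pow_i, ← Fin.val_add, add_neg_cancel]
    simp
  fin_cases b <;> fin_cases b'
  · simp [qv, mulF, Fin.val_add, h.pow_i, pow_add]
  · simp [qv, mulF, Fin.val_add, h.pow_i, pow_add, mul_assoc]
  · simp only [qv, mulF]
    simp only [Fin.mk_one, Fin.zero_eta, Fin.isValue, one_ne_zero, ↓reduceIte, Fin.val_one, Fin.val_zero,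
      pow_one, pow_zero, mul_one, add_zero, and_false, zero_ne_one]
    rw [mul_assoc, hcj, hneg, Fin.val_add, h.pow_i, pow_add, mul_assoc]
  · simp only [qv, mulF]
    simp only [Fin.mk_one, Fin.isValue, one_ne_zero, ↓reduceIte, Fin.val_one, pow_one, and_self]
    rw [show ((1 : Fin 2) + 1) = 0 from rfl]
    simp only [Fin.val_zero, pow_zero, mul_one]
    have e : i ^ a.val * j * (i ^ a'.val * j) = i ^ a.val * i ^ (-a' : Fin 4).val * (j * j) := by
      rw [← hneg, mul_assoc, ← mul_assoc j, hcj]; group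
    rw [e, h.hj, Fin.val_add, h.pow_i, Fin.val_add, pow_add, h.pow_i, pow_add]
    simp [pow_two]

theorem Rel.qv_pow (h : Rel i j c t) (x : Qf) (n : ℕ) : qv i j (powF x n) = qv i j x ^ n := by
  induction n with
  | zero => simp [powF, qv]
  | succ n ih => rw [powF, h.qv_mul, ih, pow_succ]

theorem Rel.conj_j (h : Rel i j c t) : t * j * t⁻¹ = i ^ 3 * j := by
  have hi' : i⁻¹ = i ^ 3 := inv_eq_of_mul_eq_one_right (by rw [← pow_succ', h.hi])
  have htinv : t⁻¹ = t := inv_eq_of_mul_eq_one_right h.ht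
  have e1 : t * c = c⁻¹ * t := h.htc
  have e2 : c⁻¹ * t⁻¹ = t⁻¹ * c := by
    rw [htinv]
    calc c⁻¹ * t = t * c := e1.symm
      _ = _ := rfl
  have hcc : c⁻¹ * i * c = i * j := by
    have h3 : c⁻¹ = c * c := inv_eq_of_mul_eq_one_right (by rw [← mul_assoc, ← pow_three', h.hc])
    have hcc2 : (c * c)⁻¹ = c := by rw [← h3, inv_inv]
    calc c⁻¹ * i * c = c * c * i * (c * c)⁻¹ := by rw [hcc2, h3]
      _ = c * (c * i * c⁻¹) * c⁻¹ := by group
      _ = i * j := by rw [h.hci, h.hcj]
  calc t * j * t⁻¹ = c⁻¹ * (t * i * t⁻¹) * c := by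
        rw [← h.hci]
        calc t * (c * i * c⁻¹) * t⁻¹ = (t * c) * i * (c⁻¹ * t⁻¹) := by group
          _ = _ := by rw [e1, e2]; group
    _ = (c⁻¹ * i * c)⁻¹ := by rw [h.hti]; group
    _ = j⁻¹ * i⁻¹ := by rw [hcc, mul_inv_rev]
    _ = _ := by
      have hji : j⁻¹ = i * i * j := by
        apply inv_eq_of_mul_eq_one_left
        rw [mul_assoc, h.hj, ← h.hi]; simp [pow_succ, mul_assoc]
      rw [hji, hi', mul_assoc, show j * i ^ 3 = (i ^ 3)⁻¹ * j by rw [← inv_pow, ← h.hji, conj_pow]; group,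
        ← inv_pow, hi', ← mul_assoc, ← pow_mul, ← pow_two, ← pow_add, ← h.pow_i]

theorem Rel.qv_conjC (h : Rel i j c t) (x : Qf) : qv i j (conjC x) = c * qv i j x * c⁻¹ := by
  rw [conjC, h.qv_mul, h.qv_pow, h.qv_pow,
    show qv i j (0, 1) = c * i * c⁻¹ by rw [h.hci]; simp [qv],
    show qv i j (1, 1) = c * j * c⁻¹ by rw [h.hcj]; simp [qv], conj_pow, conj_pow, qv]
  group

theorem Rel.qv_conjT (h : Rel i j c t) (x : Qf) : qv i j (conjT x) = t * qv i j x * t⁻¹ := by
  rw [conjT, h.qv_mul, h.qv_pow, h.qv_pow,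
    show qv i j (3, 0) = t * i * t⁻¹ by
      rw [h.hti, inv_eq_of_mul_eq_one_right (show i * i ^ 3 = 1 by rw [← pow_succ', h.hi])]; simp [qv],
    show qv i j (3, 1) = t * j * t⁻¹ by rw [h.conj_j]; simp [qv], conj_pow, conj_pow, qv]
  group

theorem Rel.val_act (h : Rel i j c t) (g : Gen) (e : El) :
    val i j c t (act g e) = gen i j c t g * val i j c t e := by
  obtain ⟨x, m, n⟩ := e
  have hc' : ∀ k : ℕ, c ^ (k % 3) = c ^ k := fun k => by
    conv_rhs => rw [← Nat.mod_add_div k 3, pow_add, pow_mul, h.hc, one_pow, mul_one]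
  have ht' : ∀ k : ℕ, t ^ (k % 2) = t ^ k := fun k => by
    conv_rhs => rw [← Nat.mod_add_div k 2, pow_add, pow_mul, pow_two, h.ht, one_pow, mul_one]
  cases g with
  | I => simp only [val, act, gen, h.qv_mul]; simp [qv, mul_assoc]
  | J => simp only [val, act, gen, h.qv_mul]; simp [qv, mul_assoc]
  | C =>
    simp only [val, act, gen, h.qv_conjC, Fin.val_add, hc', Fin.val_one, pow_succ']
    group
  | T =>
    simp only [val, act, gen, h.qv_conjT]
    have e1 : c ^ (-m : Fin 3).val = (c ^ m.val)⁻¹ := by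
      rw [eq_inv_iff_mul_eq_one, ← pow_add, ← hc', ← Fin.val_add, neg_add_cancel]
      simp
    have e2 : t * c ^ m.val = (c ^ m.val)⁻¹ * t := by
      rw [← inv_pow, show c⁻¹ = t * c * t⁻¹ by rw [h.htc]; group, conj_pow]; group
    rw [e1, Fin.val_add, ht', Fin.val_one, pow_succ']
    calc t * qv i j x * t⁻¹ * (c ^ m.val)⁻¹ * (t * t ^ n.val)
        = t * qv i j x * t⁻¹ * ((c ^ m.val)⁻¹ * t) * t ^ n.val := by group
      _ = _ := by rw [← e2]; group

theorem Rel.range_val (h : Rel i j c t) [Finite G] (hgen : Subgroup.closure {i, j, c, t} = ⊤) :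
    Function.Surjective (val i j c t) := by
  open Pointwise in
  have hst : Subgroup.closure {i, j, c, t} ≤ MulAction.stabilizer G (Set.range (val i j c t)) := by
    have hall : ∀ g : Gen, gen i j c t g ∈ MulAction.stabilizer G (Set.range (val i j c t)) := fun g => by
      rw [MulAction.mem_stabilizer_iff]
      refine Set.eq_of_subset_of_ncard_le ?_ (by rw [Set.ncard_smul_set]) (Set.toFinite _)
      rintro _ ⟨_, ⟨e, rfl⟩, rfl⟩
      exact ⟨act g e, h.val_act g e⟩
    rw [Subgroup.closure_le]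
    rintro x (rfl | rfl | rfl | rfl)
    exacts [hall .I, hall .J, hall .C, hall .T]
  intro g
  open Pointwise in
  have hg : g ∈ MulAction.stabilizer G (Set.range (val i j c t)) := hst (by rw [hgen]; trivial)
  rw [MulAction.mem_stabilizer_iff] at hg
  open Pointwise in
  have : g • (1 : G) ∈ g • Set.range (val i j c t) :=
    Set.smul_mem_smul_set ⟨((0, 0), 0, 0), by simp [val, qv]⟩
  rw [hg] at this
  simpa using this

/-- Two generated groups of order 48 with these relations are isomorphic. -/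
theorem iso {G : Type*} [Group G] [Finite G] {i j c t : G} (h : Rel i j c t)
    (hgen : Subgroup.closure {i, j, c, t} = ⊤) (h48 : Nat.card G = 48)
    {H : Type*} [Group H] [Finite H] {i' j' c' t' : H} (h' : Rel i' j' c' t')
    (hgen' : Subgroup.closure {i', j', c', t'} = ⊤) (h48' : Nat.card H = 48) : Nonempty (G ≃* H) := by
  have hb : ∀ {K : Type _} [Group K] [Finite K] {a b u w : K}, Rel a b u w →
      Subgroup.closure {a, b, u, w} = ⊤ → Nat.card K = 48 → Function.Bijective (val a b u w) :=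
    fun r g n => (r.range_val g).bijective_of_nat_card_le (by simp [n])
  obtain b1 := hb h hgen h48
  have b2 : Function.Bijective (val i' j' c' t') :=
    (h'.range_val hgen').bijective_of_nat_card_le (by simp [h48'])
  let f := Equiv.ofBijective _ b1
  let f' := Equiv.ofBijective _ b2
  let e : G ≃ H := f.symm.trans f'
  have hgen_mul : ∀ (g : Gen) (y : G), e (gen i j c t g * y) = gen i' j' c' t' g * e y := by
    intro g y
    obtain ⟨p, rfl⟩ := f.surjective y
    have h1 : gen i j c t g * f p = f (act g p) := (h.val_act g p).symm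
    simp only [h1, e, Equiv.trans_apply, Equiv.symm_apply_apply]
    exact h'.val_act g p
  have he1 : e 1 = 1 := by
    have h1 : f ((0, 0), 0, 0) = 1 := by simp [f, val, qv]
    rw [← h1]
    simp [e, f', val, qv]
  have key : ∀ x : G, ∀ y, e (x * y) = e x * e y := by
    intro x
    have hx : x ∈ Subgroup.closure ({i, j, c, t} : Set G) := by rw [hgen]; trivial
    refine Subgroup.closure_induction (p := fun x _ => ∀ y, e (x * y) = e x * e y) ?_ ?_ ?_ ?_ hx
    · intro s hs y
      obtain ⟨g, rfl⟩ : ∃ g, gen i j c t g = s := by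
        rcases hs with rfl | rfl | rfl | rfl
        exacts [⟨.I, rfl⟩, ⟨.J, rfl⟩, ⟨.C, rfl⟩, ⟨.T, rfl⟩]
      conv_rhs => rw [← mul_one (gen i j c t g), hgen_mul, he1, mul_one]
      exact hgen_mul g y
    · intro y; rw [one_mul, he1, one_mul]
    · intro a b _ _ ha hb' y; rw [mul_assoc, ha, hb', ha b, mul_assoc]
    · intro a _ ha y
      have e1 := ha (a⁻¹ * y)
      have e2 := ha a⁻¹
      rw [mul_inv_cancel_left] at e1
      rw [mul_inv_cancel, he1] at e2
      rw [e1, ← inv_eq_of_mul_eq_one_right e2.symm, inv_mul_cancel_left]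
  exact ⟨{ e with map_mul' := key }⟩

end Cfsg.Agent.Lib.BinOct
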